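import Groth.Agent.RelAss16.Basic
import Groth.Prelude.Def_MoreMor

/-! The relative assassin in terms of fibres, and its behaviour under base change. -/

set_option autoImplicit false
set_option linter.style.haveILetI false
set_option backward.isDefEq.respectTransparency false
set_option backward.isDefEq.respectTransparency.types false

universe u

open CategoryTheory Limits AlgebraicGeometry IsLocalRing
open scoped TensorProduct

namespace Groth.Agent.RelAssBC

open Groth.Agent

/-- Associated maximal ideal of a module over a quotient. -/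
theorem ass_surjective_iff {A B N : Type u} [CommRing A] [IsLocalRing A] [CommRing B] [IsLocalRing B] [Algebra A B]
    (hs : Function.Surjective (algebraMap A B)) [AddCommGroup N] [Module A N] [Module B N] [IsScalarTower A B N] :
    IsAssociatedPrime (maximalIdeal A) N ↔ IsAssociatedPrime (maximalIdeal B) N := by
  haveI := IsLocalHom.of_surjective _ hs
  have hm : (maximalIdeal B).comap (algebraMap A B) = maximalIdeal A :=
    IsLocalRing.eq_maximalIdeal (Ideal.comap_isMaximal_of_surjective _ hs)
  have hc : ∀ y : N, ((⊥ : Submodule A N).colon {y}).radical =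
      ((⊥ : Submodule B N).colon {y}).radical.comap (algebraMap A B) := fun y => by
    rw [Ideal.comap_radical]
    congr 1
    ext r
    rw [Ideal.mem_comap, Submodule.mem_colon_singleton, Submodule.mem_colon_singleton, Submodule.mem_bot,
      Submodule.mem_bot, algebraMap_smul]
  constructor
  · rintro ⟨-, y, hy⟩
    refine ⟨(maximalIdeal.isMaximal B).isPrime, y, Ideal.comap_injective_of_surjective _ hs ?_⟩
    rw [hm, ← hc, hy]
  · rintro ⟨-, y, hy⟩
    exact ⟨(maximalIdeal.isMaximal A).isPrime, y, by rw [hc, ← hy, hm]⟩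

/-- Associated maximal ideal of `M / (ker) M`. -/
theorem ass_tensor_quot {A B M : Type u} [CommRing A] [IsLocalRing A] [CommRing B] [IsLocalRing B] [Algebra A B]
    (hs : Function.Surjective (algebraMap A B)) [AddCommGroup M] [Module A M] :
    IsAssociatedPrime (maximalIdeal A) (M ⧸ RingHom.ker (algebraMap A B) • (⊤ : Submodule A M)) ↔
      IsAssociatedPrime (maximalIdeal B) (B ⊗[A] M) := by
  let e₁ : (A ⧸ RingHom.ker (Algebra.ofId A B)) ≃ₐ[A] B := Ideal.quotientKerAlgEquivOfSurjective hs
  let e : (M ⧸ RingHom.ker (algebraMap A B) • (⊤ : Submodule A M)) ≃ₗ[A] B ⊗[A] M :=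
    (TensorProduct.quotTensorEquivQuotSMul M (RingHom.ker (algebraMap A B))).symm.trans
      (LinearEquiv.rTensor M e₁.toLinearEquiv)
  rw [LinearEquiv.isAssociatedPrime_iff e, ass_surjective_iff hs]

/-- A point lies in the relative assassin iff it is associated on its fibre. -/
theorem mem_relAss_iff {X S : Scheme.{u}} (f : X ⟶ S) (F : X.Modules) {s : S} (w : ↥(f.fiber s)) :
    f.fiberι s w ∈ MoreMor.relAss f F ↔ Curv2.IsAssPoint ((Scheme.Modules.pullback (f.fiberι s)).obj F) w := by
  let ι := f.fiberι s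
  letI := (ι.stalkMap w).hom.toAlgebra
  let e : ((Scheme.Modules.pullback ι).obj F).presheaf.stalk w ≃ₗ[(f.fiber s).presheaf.stalk w]
      ((f.fiber s).presheaf.stalk w ⊗[X.presheaf.stalk (ι w)] F.presheaf.stalk (ι w)) :=
    ((KFlatLib.stalkPullbackIso ι w).app F).toLinearEquiv
  refine Iff.trans ?_ e.symm.isAssociatedPrime_iff
  refine Iff.trans ?_ (ass_tensor_quot (ι.stalkMap_surjective w))
  show IsAssociatedPrime _ _ ↔ _
  rw [show RingHom.ker (algebraMap (X.presheaf.stalk (ι w)) ((f.fiber s).presheaf.stalk w)) =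
    (maximalIdeal (S.presheaf.stalk (f (ι w)))).map (f.stalkMap (ι w)).hom from FlatDvr.ker_stalkMap_fiberι f w]

variable {X S X' S' : Scheme.{u}} {f : X ⟶ S} [LocallyOfFiniteType f] {g : S' ⟶ S} {f' : X' ⟶ S'} {g' : X' ⟶ X}

theorem isAssPoint_fibre_iff' (hc : IsPullback g' f' f g) (F : X.Modules) (s' : S') (w : ↥(f'.fiber s')) :
    Curv2.IsAssPoint ((Scheme.Modules.pullback (f'.fiberι s')).obj
        ((Scheme.Modules.pullback g').obj F)) w ↔
      Curv2.IsAssPoint ((Scheme.Modules.pullback
          (f.fiberι (f (g' (f'.fiberι s' w))))).obj F) (f.asFiber (g' (f'.fiberι s' w))) ∧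
        ∀ x'' : X', f' x'' = s' → g' x'' = g' (f'.fiberι s' w) →
          x'' ⤳ f'.fiberι s' w → x'' = f'.fiberι s' w := by
  let ι' := f'.fiberι s'
  let Z' := f'.fiber s'
  let q := f.fiberToSpecResidueField (g s')
  haveI : LocallyOfFiniteType q := MorphismProperty.pullback_snd _ _ ‹_›
  letI : Algebra (S.residueField (g s')) (S'.residueField s') := (g.residueFieldMap s').hom.toAlgebra
  let π : Z' ⟶ f.fiber (g s') :=
    pullback.map _ _ _ _ g' (Spec.map (g.residueFieldMap s')) g hc.w.symm (by simp)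
  have hπι : π ≫ f.fiberι (g s') = ι' ≫ g' := pullback.lift_fst _ _ _
  have hsq : IsPullback π (f'.fiberToSpecResidueField s') q
      (Spec.map (CommRingCat.ofHom (algebraMap (S.residueField (g s')) (S'.residueField s')))) :=
    isPullback_fiberToSpecResidueField_of_isPullback hc s'
  let e := hsq.isoPullback
  have he : e.hom ≫ pullback.fst _ _ = π := hsq.isoPullback_hom_fst
  let G := (Scheme.Modules.pullback (f.fiberι (g s'))).obj F
  let φ : (Scheme.Modules.pullback ι').obj ((Scheme.Modules.pullback g').obj F) ≅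
      (Scheme.Modules.pullback e.hom).obj ((Scheme.Modules.pullback (pullback.fst _ _)).obj G) :=
    (Scheme.Modules.pullbackComp _ _).app F ≪≫
      (Scheme.Modules.pullbackCongr (hπι.symm.trans (by rw [← he, Category.assoc]))).app F ≪≫
      ((Scheme.Modules.pullbackComp e.hom (pullback.fst _ _ ≫ f.fiberι (g s'))).app F).symm ≪≫
      (Scheme.Modules.pullback e.hom).mapIso ((Scheme.Modules.pullbackComp _ _).app F).symm
  rw [RelAss16.isAssPoint_congr φ, RelAss16.isAssPoint_pullback_iff]
  erw [RelAss16.isAssPoint_fst_iff (k := S.residueField (g s')) (K := S'.residueField s') q G (e.hom w)]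
  have hw : f.fiberι (g s') (π w) = g' (ι' w) := by
    rw [← Scheme.Hom.comp_apply, hπι]; rfl
  have hπw : pullback.fst q _ (e.hom w) = π w := by rw [← he]; rfl
  rw [hπw, RelAss16.isAssPoint_fibre_congr f F (π w) _ hw]
  refine and_congr Iff.rfl ⟨fun h x'' hs hx hsp => ?_, fun h v' hv' hπ' => ?_⟩
  · obtain ⟨w', rfl⟩ : x'' ∈ Set.range ι' := by rw [Scheme.Hom.range_fiberι]; exact hs
    have h2 := (ι'.isEmbedding.isInducing.specializes_iff.1 hsp)
    refine congrArg ι' (e.hom.homeomorph.injective (h (e.hom w') (h2.map e.hom.continuous) ?_))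
    rw [← Scheme.Hom.comp_apply, he]
    refine (f.fiberι (g s')).isEmbedding.injective ?_
    rw [hw, ← Scheme.Hom.comp_apply, hπι]
    exact hx
  · obtain ⟨w', rfl⟩ := e.hom.homeomorph.surjective v'
    have h2 : w' ⤳ w := e.hom.homeomorph.isInducing.specializes_iff.1 hv'
    refine congrArg e.hom (ι'.isEmbedding.injective (h (ι' w') ?_ ?_ (h2.map ι'.continuous)))
    · exact FlatDvr.fiberι_apply_eq _ w'
    · show g' (ι' w') = _
      rw [← hw, ← Scheme.Hom.comp_apply, ← hπι, Scheme.Hom.comp_apply]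
      refine congrArg _ ?_
      have h4 : π w' = pullback.fst q _ (e.hom w') := by rw [← he]; rfl
      exact h4.trans hπ'

theorem mem_relAss_baseChange_iff (hc : IsPullback g' f' f g) (F : X.Modules) (x' : X') :
    x' ∈ MoreMor.relAss f' ((Scheme.Modules.pullback g').obj F) ↔ g' x' ∈ MoreMor.relAss f F ∧
      ∀ x'' : X', f' x'' = f' x' → g' x'' = g' x' → x'' ⤳ x' → x'' = x' := by
  have h1 := mem_relAss_iff f' ((Scheme.Modules.pullback g').obj F) (f'.asFiber x')
  have h2 := mem_relAss_iff f F (f.asFiber (g' x'))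
  have h3 := isAssPoint_fibre_iff' hc F _ (f'.asFiber x')
  simp only [Scheme.Hom.fiberι_asFiber] at h1 h2
  rw [h1, h3, h2]
  suffices key : ∀ y, y = x' →
      ((Curv2.IsAssPoint ((Scheme.Modules.pullback (f.fiberι (f (g' y)))).obj F) (f.asFiber (g' y)) ∧
        ∀ x'' : X', f' x'' = f' x' → g' x'' = g' y → x'' ⤳ y → x'' = y) ↔
      (Curv2.IsAssPoint ((Scheme.Modules.pullback (f.fiberι (f (g' x')))).obj F) (f.asFiber (g' x')) ∧
        ∀ x'' : X', f' x'' = f' x' → g' x'' = g' x' → x'' ⤳ x' → x'' = x')) from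
    key _ (f'.fiberι_asFiber x')
  rintro y rfl
  exact Iff.rfl

theorem exists_maximal_point {W : Scheme.{u}} (w₀ : W) : ∃ η : W, ∀ w, w ⤳ η → w = η := by
  have hi := isIrreducible_irreducibleComponent (x := w₀)
  refine ⟨hi.genericPoint, fun w hw => ?_⟩
  have hg : closure {hi.genericPoint} = irreducibleComponent w₀ := by
    rw [hi.isGenericPoint_genericPoint_closure, isClosed_irreducibleComponent.closure_eq]
  have hsub : irreducibleComponent w₀ ⊆ closure {w} := hg ▸ hw.closure_subset
  have heq := (irreducibleComponent_property w₀).2.2 _ isIrreducible_singleton.closure.isPreirreducible hsub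
  exact (hw.antisymm (specializes_iff_closure_subset.2 (heq.trans hg.symm).subset)).eq

/-- Relatively associated points lift along base change. -/
theorem exists_relAss_over (hc : IsPullback g' f' f g) (F : X.Modules) {x : X} (hx : x ∈ MoreMor.relAss f F)
    {s' : S'} (hs : f x = g s') :
    ∃ x' : X', g' x' = x ∧ f' x' = s' ∧ x' ∈ MoreMor.relAss f' ((Scheme.Modules.pullback g').obj F) := by
  obtain ⟨z, hzx, hzs⟩ := Scheme.Pullback.exists_preimage_pullback x s' hs
  let ι' := f'.fiberι s'
  let x₀ := hc.isoPullback.inv z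
  have h0 : g' x₀ = x := by
    rw [show g' x₀ = (hc.isoPullback.inv ≫ g') z from rfl, hc.isoPullback_inv_fst]; exact hzx
  have h0' : f' x₀ = s' := by
    rw [show f' x₀ = (hc.isoPullback.inv ≫ f') z from rfl, hc.isoPullback_inv_snd]; exact hzs
  obtain ⟨w₀, hw₀⟩ : x₀ ∈ Set.range ι' := by rw [Scheme.Hom.range_fiberι]; exact h0'
  obtain ⟨v₀, -⟩ : w₀ ∈ Set.range ((ι' ≫ g').fiberι x) := by
    rw [Scheme.Hom.range_fiberι]; show g' (ι' w₀) = x; rw [hw₀]; exact h0
  obtain ⟨η, hη⟩ := exists_maximal_point v₀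
  let w := (ι' ≫ g').fiberι x η
  have hw : g' (ι' w) = x := FlatDvr.fiberι_apply_eq _ η
  have hw' : f' (ι' w) = s' := FlatDvr.fiberι_apply_eq _ w
  refine ⟨ι' w, hw, hw', (mem_relAss_baseChange_iff hc F _).2 ⟨by rwa [hw], fun x'' hs'' hx'' hsp => ?_⟩⟩
  obtain ⟨w'', rfl⟩ : x'' ∈ Set.range ι' := by rw [Scheme.Hom.range_fiberι]; exact hs''.trans hw'
  obtain ⟨v, rfl⟩ : w'' ∈ Set.range ((ι' ≫ g').fiberι x) := by
    rw [Scheme.Hom.range_fiberι]; exact hx''.trans hw
  rw [hη v (((ι' ≫ g').fiberι x).isEmbedding.isInducing.specializes_iff.1 (ι'.isEmbedding.isInducing.specializes_iff.1 hsp))]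

end Groth.Agent.RelAssBC
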